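import Groth.Prelude.Def_DescFam

/-!
# Pullback of descent data along morphisms over the base
-/

set_option autoImplicit false
set_option backward.isDefEq.respectTransparency false
set_option backward.isDefEq.respectTransparency.types false

universe u

open CategoryTheory CategoryTheory.Limits AlgebraicGeometry Desc

namespace GrothLib.DDPull

variable {S X : Scheme.{u}} (a : X ⟶ S)

/-- One-member family. -/
abbrev fam : ∀ _ : PUnit.{u + 1}, X ⟶ S := fun _ => a

variable {a}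

/-- Isomorphism of descent data from an isomorphism of the underlying schemes. -/
noncomputable def isoMk {ι : Type*} {Xi : ι → Scheme.{u}} {f : ∀ i, Xi i ⟶ S} {D D' : SchDDFam f}
    (e : ∀ i, D.obj i ≅ D'.obj i)
    (comm : ∀ ⦃T : Scheme.{u}⦄ ⦃i j⦄ (x₀ : T ⟶ Xi i) (x₁ : T ⟶ Xi j) (h : x₀ ≫ f i = x₁ ≫ f j)
      (v : Lifts (D.obj i) x₀) (w : Lifts (D'.obj i) x₀), w.1 = v.1 ≫ (e i).hom.left →
        (D'.φ x₀ x₁ h w).1 = (D.φ x₀ x₁ h v).1 ≫ (e j).hom.left) : D ≅ D' where
  hom := ⟨fun i => (e i).hom, comm⟩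
  inv := ⟨fun i => (e i).inv, fun T i j x₀ x₁ h v w hw => by
    have hv : v.1 = w.1 ≫ (e i).hom.left := by
      rw [hw, Category.assoc, ← Over.comp_left, (e i).inv_hom_id, Over.id_left, Category.comp_id]
    rw [comm x₀ x₁ h w v hv, Category.assoc, ← Over.comp_left, (e j).hom_inv_id, Over.id_left, Category.comp_id]⟩
  hom_inv_id := SchDDFam.hom_ext (funext fun i => (e i).hom_inv_id)
  inv_hom_id := SchDDFam.hom_ext (funext fun i => (e i).inv_hom_id)

section self

variable (q : X ⟶ X) (hq : q ≫ a = a)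

/-- The pullback functor along `q`. -/
noncomputable abbrev pullSelf : SchDDFam (fam a) ⥤ SchDDFam (fam a) :=
  pullDDFam (f := fam a) (f' := fam a) (α := fun j => j) (p := 𝟙 S) (p' := fun _ => q)
    (fun _ => hq.trans (Category.comp_id a).symm)

lemma compat {T : Scheme.{u}} (x : T ⟶ X) (hq : q ≫ a = a) : (x ≫ q) ≫ a = x ≫ a := by
  rw [Category.assoc, hq]

variable (D : SchDDFam (fam a))

/-- `D ×_{q} X ⟶ D`. -/
noncomputable def toSelf (i : PUnit.{u + 1}) : pullback (D.obj i).hom q ⟶ (D.obj i).left :=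
  (D.φ (pullback.snd (D.obj i).hom q ≫ q) (pullback.snd (D.obj i).hom q) (compat q _ hq)
    ⟨pullback.fst (D.obj i).hom q, pullback.condition⟩).1

lemma toSelf_hom (i : PUnit.{u + 1}) : toSelf q hq D i ≫ (D.obj i).hom = pullback.snd (D.obj i).hom q :=
  (D.φ (pullback.snd (D.obj i).hom q ≫ q) (pullback.snd (D.obj i).hom q) (compat q _ hq)
    ⟨pullback.fst (D.obj i).hom q, pullback.condition⟩).2

lemma comp_toSelf {T : Scheme.{u}} (i : PUnit.{u + 1}) (x : T ⟶ X) (v : T ⟶ pullback (D.obj i).hom q)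
    (hv : v ≫ pullback.snd (D.obj i).hom q = x) (u' : Lifts (D.obj i) (x ≫ q))
    (hu : u'.1 = v ≫ pullback.fst (D.obj i).hom q) :
    v ≫ toSelf q hq D i = (D.φ (x ≫ q) x (compat q x hq) u').1 :=
  (D.φ_natural v _ _ (compat q _ hq) (x ≫ q) x (by rw [← Category.assoc, hv]) hv (compat q x hq) _ u' hu).symm

/-- The component isomorphisms. -/
noncomputable def selfApp (i : PUnit.{u + 1}) :
    Over.mk (pullback.snd (D.obj i).hom q) ≅ D.obj i :=
  Over.isoMk
    { hom := toSelf q hq D i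
      inv := pullback.lift (D.φ (D.obj i).hom ((D.obj i).hom ≫ q) (compat q _ hq).symm
        ⟨𝟙 _, Category.id_comp _⟩).1 (D.obj i).hom
        (D.φ (D.obj i).hom ((D.obj i).hom ≫ q) (compat q _ hq).symm ⟨𝟙 _, Category.id_comp _⟩).2
      hom_inv_id := by
        apply pullback.hom_ext
        · rw [Category.assoc, pullback.lift_fst, Category.id_comp]
          have := D.φ_natural (toSelf q hq D i) (i := i) (j := i) _ _ (compat q _ hq).symm
            (pullback.snd (D.obj i).hom q) (pullback.snd (D.obj i).hom q ≫ q) (toSelf_hom q hq D i)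
            (by rw [← Category.assoc, toSelf_hom]) (compat q _ hq).symm ⟨𝟙 _, Category.id_comp _⟩
            ⟨toSelf q hq D i, toSelf_hom q hq D i⟩ (Category.comp_id _).symm
          rw [← this]
          have h2 : (⟨toSelf q hq D i, toSelf_hom q hq D i⟩ : Lifts (D.obj i) (pullback.snd (D.obj i).hom q)) =
              D.φ (pullback.snd (D.obj i).hom q ≫ q) (pullback.snd (D.obj i).hom q) (compat q _ hq)
                ⟨pullback.fst (D.obj i).hom q, pullback.condition⟩ := Subtype.ext rfl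
          rw [h2, D.φ_comp, D.φ_self]
        · rw [Category.assoc, pullback.lift_snd, Category.id_comp, toSelf_hom]
      inv_hom_id := by
        rw [comp_toSelf q hq D i (D.obj i).hom _ (pullback.lift_snd _ _ _)
          (D.φ (D.obj i).hom ((D.obj i).hom ≫ q) (compat q _ hq).symm ⟨𝟙 _, Category.id_comp _⟩)
          (pullback.lift_fst _ _ _).symm, D.φ_comp, D.φ_self] }
    (toSelf_hom q hq D i)

lemma self_comm {T : Scheme.{u}} (i j : PUnit.{u + 1}) (x₀ x₁ : T ⟶ X) (h : x₀ ≫ a = x₁ ≫ a)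
    (h' : (x₀ ≫ q) ≫ a = (x₁ ≫ q) ≫ a)
    (v : Lifts (Over.mk (pullback.snd (D.obj i).hom q)) x₀) (w : Lifts (D.obj i) x₀)
    (hw : w.1 = v.1 ≫ toSelf q hq D i) :
    (D.φ x₀ x₁ h w).1 = ((liftsPullbackEquiv (D.obj j) q x₁).symm
      (D.φ (x₀ ≫ q) (x₁ ≫ q) h' (liftsPullbackEquiv (D.obj i) q x₀ v))).1 ≫ toSelf q hq D j := by
  have hv2 : ∀ (k : PUnit.{u + 1}) (x : T ⟶ X) (v : Lifts (Over.mk (pullback.snd (D.obj k).hom q)) x),
      v.1 ≫ toSelf q hq D k = (D.φ (x ≫ q) x (compat q x hq) (liftsPullbackEquiv (D.obj k) q x v)).1 :=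
    fun k x v => comp_toSelf q hq D k x v.1 v.2 _ rfl
  rw [hv2 j, Equiv.apply_symm_apply, D.φ_comp,
    show w = D.φ (x₀ ≫ q) x₀ (compat q x₀ hq) (liftsPullbackEquiv (D.obj i) q x₀ v) from
      Subtype.ext (hw.trans (hv2 i x₀ v)), D.φ_comp]

/-- Pullback along `q` over `S` is isomorphic to the identity, objectwise. -/
noncomputable def selfObj : (pullSelf q hq).obj D ≅ D :=
  isoMk (D := (pullSelf q hq).obj D) (selfApp q hq D) fun T i j x₀ x₁ h v w hw =>
    self_comm q hq D i j x₀ x₁ h _ v w hw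

/-- Pullback along `q` over `S` is isomorphic to the identity. -/
noncomputable def selfIso : pullSelf q hq ≅ 𝟭 (SchDDFam (fam a)) :=
  NatIso.ofComponents (fun D => selfObj q hq D) fun {D D'} b => by
    apply SchDDFam.hom_ext
    funext i
    apply Over.OverMorphism.ext
    show pullback.map (D.obj i).hom q (D'.obj i).hom q (b.hom i).left (𝟙 _) (𝟙 _) (by simp [Over.w]) (by simp) ≫ toSelf q hq D' i =
      toSelf q hq D i ≫ (b.hom i).left
    let u₀ : Lifts (D.obj i) (pullback.snd (D.obj i).hom q ≫ q) :=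
      ⟨pullback.fst (D.obj i).hom q, pullback.condition⟩
    refine (comp_toSelf q hq D' i (pullback.snd (D.obj i).hom q) _
      ((pullback.lift_snd _ _ _).trans (Category.comp_id _)) (b.push u₀)
      (pullback.lift_fst _ _ _).symm).trans ?_
    exact b.comm _ _ _ u₀ (b.push u₀) rfl

end self

section comp

variable {X₁ X₂ : Scheme.{u}} {a₁ : X₁ ⟶ S} {a₂ : X₂ ⟶ S} (f : X₁ ⟶ X) (g : X₂ ⟶ X₁)
  (hf : f ≫ a = a₁) (hg : g ≫ a₁ = a₂)

/-- The pullback functor along `f`. -/
noncomputable abbrev pull : SchDDFam (fam a) ⥤ SchDDFam (fam a₁) :=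
  pullDDFam (f := fam a) (f' := fam a₁) (α := fun j => j) (p := 𝟙 S) (p' := fun _ => f)
    (fun _ => hf.trans (Category.comp_id a₁).symm)

lemma φ_congr (D : SchDDFam (fam a)) {T : Scheme.{u}} {i j : PUnit.{u + 1}} {x₀ x₁ y₀ y₁ : T ⟶ X}
    (h₀ : x₀ = y₀) (h₁ : x₁ = y₁) (h : x₀ ≫ a = x₁ ≫ a) (h' : y₀ ≫ a = y₁ ≫ a)
    (v : Lifts (D.obj i) x₀) (v' : Lifts (D.obj i) y₀) (hv : v.1 = v'.1) :
    (D.φ (i := i) (j := j) x₀ x₁ h v).1 = (D.φ (i := i) (j := j) y₀ y₁ h' v').1 := by
  subst h₀ h₁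
  rw [show v = v' from Subtype.ext hv]

lemma pull_φ_fst (D : SchDDFam (fam a)) {T : Scheme.{u}} {i j : PUnit.{u + 1}} (x₀ x₁ : T ⟶ X₁)
    (h : x₀ ≫ a₁ = x₁ ≫ a₁) (v : Lifts (((pull f hf).obj D).obj i) x₀) :
    (((pull f hf).obj D).φ (i := i) (j := j) x₀ x₁ h v).1 ≫ pullback.fst (D.obj j).hom f =
      (D.φ (i := i) (j := j) (x₀ ≫ f) (x₁ ≫ f) (by simpa only [Category.assoc, hf] using h)
        (liftsPullbackEquiv (D.obj i) f x₀ v)).1 :=
  pullback.lift_fst _ _ _

lemma pull_φ_snd (D : SchDDFam (fam a)) {T : Scheme.{u}} {i j : PUnit.{u + 1}} (x₀ x₁ : T ⟶ X₁)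
    (h : x₀ ≫ a₁ = x₁ ≫ a₁) (v : Lifts (((pull f hf).obj D).obj i) x₀) :
    (((pull f hf).obj D).φ (i := i) (j := j) x₀ x₁ h v).1 ≫ pullback.snd (D.obj j).hom f = x₁ :=
  (((pull f hf).obj D).φ (i := i) (j := j) x₀ x₁ h v).2

/-- Pullbacks compose. -/
noncomputable def compIso :
    pull f hf ⋙ pull g hg ≅ pull (a := a) (a₁ := a₂) (g ≫ f) (by rw [Category.assoc, hf, hg]) :=
  NatIso.ofComponents
    (fun D => isoMk (fun i => Over.isoMk (pullbackLeftPullbackSndIso (D.obj i).hom f g)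
        (pullbackLeftPullbackSndIso_hom_snd _ _ _))
      fun T i j x₀ x₁ h v w hw => by
        apply pullback.hom_ext
        · refine (pull_φ_fst (g ≫ f) (by rw [Category.assoc, hf, hg]) D x₀ x₁ h w).trans ?_
          show _ = ((((pull g hg).obj ((pull f hf).obj D)).φ (i := i) (j := j) x₀ x₁ h v).1 ≫
            (pullbackLeftPullbackSndIso (D.obj j).hom f g).hom) ≫ pullback.fst (D.obj j).hom (g ≫ f)
          refine Eq.trans ?_ ((Category.assoc _ _ _).trans
            (congrArg (_ ≫ ·) (pullbackLeftPullbackSndIso_hom_fst (D.obj j).hom f g))).symm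
          refine Eq.trans ?_ (Category.assoc _ _ _)
          refine Eq.trans ?_ (congrArg (· ≫ pullback.fst (D.obj j).hom f)
            (pull_φ_fst g hg ((pull f hf).obj D) x₀ x₁ h v)).symm
          refine Eq.trans ?_ (pull_φ_fst f hf D _ _ _ _).symm
          refine φ_congr D (Category.assoc _ _ _).symm (Category.assoc _ _ _).symm _ _ _ _ ?_
          simp [hw, liftsPullbackEquiv]
          rfl
        · refine (pull_φ_snd (g ≫ f) (by rw [Category.assoc, hf, hg]) D x₀ x₁ h w).trans ?_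
          show _ = ((((pull g hg).obj ((pull f hf).obj D)).φ (i := i) (j := j) x₀ x₁ h v).1 ≫
            (pullbackLeftPullbackSndIso (D.obj j).hom f g).hom) ≫ pullback.snd (D.obj j).hom (g ≫ f)
          refine Eq.trans ?_ ((Category.assoc _ _ _).trans
            (congrArg (_ ≫ ·) (pullbackLeftPullbackSndIso_hom_snd (D.obj j).hom f g))).symm
          exact (pull_φ_snd g hg ((pull f hf).obj D) x₀ x₁ h v).symm)
    fun {D D'} b => by
      apply SchDDFam.hom_ext
      funext i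
      apply Over.OverMorphism.ext
      show pullback.map (pullback.snd (D.obj i).hom f) g (pullback.snd (D'.obj i).hom f) g
          (pullback.map (D.obj i).hom f (D'.obj i).hom f (b.hom i).left (𝟙 _) (𝟙 _) (by simp [Over.w]) (by simp))
          (𝟙 _) (𝟙 _) (by simp) (by simp) ≫ (pullbackLeftPullbackSndIso (D'.obj i).hom f g).hom =
        (pullbackLeftPullbackSndIso (D.obj i).hom f g).hom ≫
          pullback.map (D.obj i).hom (g ≫ f) (D'.obj i).hom (g ≫ f) (b.hom i).left (𝟙 _) (𝟙 _) (by simp [Over.w]) (by simp)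
      apply pullback.hom_ext <;> simp

end comp

theorem isEquivalence_pull {X₁ : Scheme.{u}} {a₁ : X₁ ⟶ S} (f : X₁ ⟶ X) (hf : f ≫ a = a₁)
    (g : X ⟶ X₁) (hg : g ≫ a₁ = a) : (pull f hf).IsEquivalence :=
  (CategoryTheory.Equivalence.mk (pull f hf) (pull g hg)
    ((compIso f g hf hg) ≪≫ selfIso (g ≫ f) (by rw [Category.assoc, hf, hg])).symm
    ((compIso g f hg hf) ≪≫ selfIso (f ≫ g) (by rw [Category.assoc, hg, hf]))).isEquivalence_functor

end GrothLib.DDPull
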